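import Cfsg.Agent.H865.EE.Nu
import Cfsg.Agent.H857.OE8.Om

/-!
# The twisted Frobenius map of `D₄(k)` (helper857, S3384)

`k` algebraically closed, locally finite, of characteristic two.

* `w4` : the longest element of the Weyl group of type `D₄`, `rep_w4` : it is `-1`;
* `cc k` : conjugation by `nu w4` after the 4-power map; `cc_xc` : `x_a(c) ↦ x_{-a}(c^4)`;
* `fix_cc` : its fixed points are `Ω₈⁺(4)`.
-/

set_option autoImplicit false
set_option linter.unusedSectionVars false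

namespace Cfsg.Agent.H857.OE8

open CoxeterSystem Subgroup Cfsg Cfsg.Lie Cfsg.Lie.ChevalleyDatum
open Cfsg.Agent.ChevalleyStructure Cfsg.Agent.ChevalleyStructure.Elts Cfsg.Agent.ChevalleyStructure.CoxeterGeom
  Cfsg.Agent.ChevalleyStructure.CoxeterGeomTypes Cfsg.Agent.ChevalleyStructure.NPerm
open Cfsg.Agent.Tits.Roots Cfsg.Agent.Tits.Core Cfsg.Agent.Nodes Cfsg.Agent.Nodes.Reps Cfsg.Agent.Nodes.BNOf
  Cfsg.Agent.Nodes.RGDChev Cfsg.Agent.Nodes.Bruhat
open Cfsg.Agent.KFacts.RgdField Cfsg.Agent.KFacts.RgdChevCoord Cfsg.Agent.BpExc.TorCent Cfsg.Agent.BpExc.TorChev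
open Cfsg.Agent.BpExc.Tow Cfsg.Agent.BpExc.TowChev Cfsg.Agent.BpExc.Fr
  Cfsg.Agent.BpExc.LangFr Cfsg.Agent.BpExc.FamField Cfsg.Agent.BpExc.FamInst Cfsg.Agent.H129.TorusChar
  Cfsg.Agent.H795.LangT Cfsg.Agent.BpExc.FamExt Cfsg.Agent.BpExc.FamUntw Cfsg.Agent.H378.TorDual Cfsg.Agent.H378.TorChar
  Cfsg.Agent.H378.TorFin Cfsg.Agent.H378.RankOne Cfsg.Agent.H378.RootTor Cfsg.Agent.H865.EE
open Cfsg.Agent.GpExc.Field (glMap emb coe_emb glMap_xG emb_injective coe_glMap)

theorem d4T : IsType chevD4 4 coxeterD4 := by simp [IsType, typeList]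

/-- the fixed points of an endomorphism -/
def Fx {Y : Type*} [Group Y] (f : Y →* Y) : Subgroup Y := f.eqLocus (MonoidHom.id Y)

theorem mem_Fx {Y : Type*} [Group Y] {f : Y →* Y} {y : Y} : y ∈ Fx f ↔ f y = y := Iff.rfl

section

variable {D : ChevalleyDatum} {l : ℕ} {M : CoxeterMatrix (Fin l)} (hp : IsType D l M) {k : Type} [Field k]
  [IsAlgClosed k] (r : ℕ) [Fact r.Prime] [CharP k r] {F : Type} [Field F] [Finite F] (f : F →+* k) {n : ℕ}
  (hn0 : 0 < n) (hn : Nat.card F = r ^ n) {d : ℕ} {B : Fin l → Fin l → ℤ} (hB : Cfsg.Agent.BpExc.FamExt.InvC D l d B) (hd : d ≠ 0)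

include hp f hn0 hn hB hd in
/-- the fixed points of `y ↦ g σ(y) g⁻¹` -/
theorem fix_equiv (hg : Nat.gcd d (Nat.card F - 1) = 1) (g : ↥(D.group k)) :
    Nonempty (↥(D.group F) ≃* ↥(Fx (tau D k r n g))) := by
  obtain ⟨z, hz⟩ := lang' hp r hn0 g
  have hz1 : phi D k r n z = z * g := by rw [← hz]; group
  have key : ∀ x : ↥(D.group F), z⁻¹ * emb hp.inList f x * z ∈ Fx (tau D k r n g) := by
    intro x
    rw [mem_Fx, tau_apply, map_mul, map_mul, map_inv, phi_emb' hp f r hn, hz1]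
    group
  let θ : ↥(D.group F) →* ↥(Fx (tau D k r n g)) :=
    MonoidHom.mk' (fun x => ⟨z⁻¹ * emb hp.inList f x * z, key x⟩) (fun a b => Subtype.ext (by
      show z⁻¹ * emb hp.inList f (a * b) * z = z⁻¹ * emb hp.inList f a * z * (z⁻¹ * emb hp.inList f b * z)
      rw [map_mul]
      group))
  refine ⟨MulEquiv.ofBijective θ ⟨?_, ?_⟩⟩
  · intro a b hab
    have h1 : z⁻¹ * emb hp.inList f a * z = z⁻¹ * emb hp.inList f b * z := congrArg Subtype.val hab
    exact emb_injective hp.inList f (mul_left_cancel (mul_right_cancel h1))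
  · rintro ⟨y, hy⟩
    have h1 := fix_of_tau r hz (mem_Fx.1 hy)
    have h2 := fix_pow_mem' hp f r hn hB hd h1
    rw [hg, pow_one] at h2
    obtain ⟨x, hx⟩ := h2
    refine ⟨x, Subtype.ext ?_⟩
    show z⁻¹ * emb hp.inList f x * z = y
    rw [hx]
    group

end

/-! ### the longest element -/

/-- a reduced word of the longest element -/
def wL : List (Fin 4) := [0, 1, 2, 3, 0, 1, 2, 3, 0, 1, 2, 3]

/-- the longest element of the Weyl group of type `D₄` -/
noncomputable def w4 : coxeterD4.Group := coxeterD4.toCoxeterSystem.wordProd wL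

/-- the Cartan matrix -/
def A4 : Fin 4 → Fin 4 → ℤ := ![![2, -1, 0, 0], ![-1, 2, -1, -1], ![0, -1, 2, 0], ![0, -1, 0, 2]]

theorem hA4 : ∀ i j, A4 i j = cartanOf chevD4 4 i j := by decide +kernel

/-- a simple reflection -/
def rf (i : Fin 4) (x : Fin 4 → ℤ) : Fin 4 → ℤ := fun j => x j - if j = i then ∑ m, A4 i m * x m else 0

theorem rep_rf (i : Fin 4) (x : Fin 4 → ℤ) :
    rep coxeterD4.toCoxeterSystem d4T.isCartan (coxeterD4.toCoxeterSystem.simple i) x = rf i x := by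
  rw [rep_simple_eq]
  funext j
  unfold rf pairing
  rw [Pi.sub_apply, Pi.smul_apply, smul_eq_mul]
  by_cases hj : j = i
  · subst hj
    rw [sr_self, if_pos rfl, mul_one]
    simp only [hA4]
  · rw [sr_ne hj, if_neg hj, mul_zero]

theorem rep_word (ω : List (Fin 4)) (x : Fin 4 → ℤ) :
    rep coxeterD4.toCoxeterSystem d4T.isCartan (coxeterD4.toCoxeterSystem.wordProd ω) x = ω.foldr rf x := by
  induction ω with
  | nil => rw [coxeterD4.toCoxeterSystem.wordProd_nil, map_one]; rfl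
  | cons i ω ih => rw [coxeterD4.toCoxeterSystem.wordProd_cons, rep_mul_apply, ih, rep_rf]; rfl

theorem w4_sr : ∀ i j : Fin 4, wL.foldr rf (fun m => if m = i then 1 else 0) j = if j = i then -1 else 0 := by
  decide +kernel

theorem rep_w4 (x : Fin 4 → ℤ) : rep coxeterD4.toCoxeterSystem d4T.isCartan w4 x = -x := by
  have h1 : ∀ i, rep coxeterD4.toCoxeterSystem d4T.isCartan w4 (sr i) = -sr i := by
    intro i
    have h2 : (sr i : Fin 4 → ℤ) = fun m => if m = i then 1 else 0 := by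
      funext m
      by_cases hm : m = i
      · subst hm; rw [sr_self, if_pos rfl]
      · rw [sr_ne hm, if_neg hm]
    unfold w4
    rw [rep_word, h2]
    funext j
    rw [w4_sr, Pi.neg_apply]
    by_cases hj : j = i
    · rw [if_pos hj, if_pos hj]
    · rw [if_neg hj, if_neg hj, neg_zero]
  have h2 := IsMC.eq_sum_sr x
  rw [h2, map_sum, ← Finset.sum_neg_distrib]
  exact Finset.sum_congr rfl fun i _ => by rw [map_zsmul, h1, smul_neg]

/-! ### the twisted Frobenius map -/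

section

variable (k : Type) [Field k] [IsAlgClosed k] [CharP k 2] [Fact (Nat.Prime 2)]

/-- conjugation by `nu w4` after the 4-power map -/
noncomputable def cc : ↥(chevD4.group k) →* ↥(chevD4.group k) := tau chevD4 k 2 2 (nu d4T k w4)

variable {k}

theorem cc_xc (hk : LocFin k) {a : Fin 4 → ℤ} (ha : IsRoot coxeterD4.toCoxeterSystem d4T.isCartan a) (c : k) :
    cc k (xc d4T a c) = xc d4T (-a) (c ^ 4) := by
  have h1 : phi chevD4 k 2 2 (xc d4T a c) = xc d4T a (c ^ 4) := by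
    obtain ⟨j, hj, rfl⟩ := (isRoot_iff d4T _ a).1 ha
    exact phi_xc d4T 2 hj c
  rw [cc, tau_apply, h1, nu_conj d4T hk w4 ha, rep_w4]

/-- **The fixed points of `cc` are `Ω₈⁺(4)`.** -/
theorem fix_cc (hk : LocFin k) {F : Type} [Field F] [Fintype F] (hF : Fintype.card F = 4) :
    Nonempty (↥(Fx (cc k)) ≃* ↥(Omega F (quadFormPlus 4 F))) := by
  have hF2 : Fintype.card F = 2 ^ 2 := hF
  have hF' : Nat.card F = 2 ^ 2 := by rw [Nat.card_eq_fintype_card, hF2]
  have hc : CharP F 2 := charP_of_card_eq_prime_pow hF2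
  let _ : Algebra (ZMod 2) F := ZMod.algebra F 2
  let _ : Algebra (ZMod 2) k := ZMod.algebra k 2
  have : Algebra.IsAlgebraic (ZMod 2) F := Algebra.IsAlgebraic.of_finite (ZMod 2) F
  let f : F →+* k := ((IsAlgClosed.lift : F →ₐ[ZMod 2] k) : F →+* k)
  obtain ⟨e⟩ := fix_equiv d4T (k := k) 2 f (n := 2) two_pos hF' Cfsg.Agent.H378.TorFin.inv_D4 two_ne_zero
    (by rw [hF']; decide) (nu d4T k w4)
  obtain ⟨e'⟩ := d4_omega (F := F) (CharTwo.two_eq_zero)
  exact ⟨e.symm.trans e'⟩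

end

end Cfsg.Agent.H857.OE8
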