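import Cfsg.Agent.H865.EE.Nu

/-!
# Root elements of `D.group k` in characteristic two (helper857, S3384)

* `xc_root_eq` : a nontrivial element is in one root group only;
* `nc_eq`, `hc_eq` : the elements `n_i` and `h_i(c)` as products of root elements;
* `gen_top` : the root elements generate;
* `nu_inj_TT` : `nu v ∈ T` only for `v = 1`;
* `exists_rep` : an element normalising the torus permutes the root groups as an element of the Weyl group.
-/

set_option autoImplicit false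
set_option linter.unusedSectionVars false

namespace Cfsg.Agent.H857.OE8

open CoxeterSystem Subgroup Cfsg Cfsg.Lie Cfsg.Lie.ChevalleyDatum
open Cfsg.Agent.ChevalleyStructure Cfsg.Agent.ChevalleyStructure.Elts Cfsg.Agent.ChevalleyStructure.CoxeterGeom
  Cfsg.Agent.ChevalleyStructure.CoxeterGeomTypes Cfsg.Agent.ChevalleyStructure.NPerm
open Cfsg.Agent.Tits.Roots Cfsg.Agent.Tits.Core Cfsg.Agent.Nodes Cfsg.Agent.Nodes.Reps Cfsg.Agent.Nodes.BNOf
  Cfsg.Agent.Nodes.RGDChev Cfsg.Agent.Nodes.Bruhat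
open Cfsg.Agent.KFacts.RgdField Cfsg.Agent.KFacts.RgdChevCoord Cfsg.Agent.BpExc.TorCent Cfsg.Agent.BpExc.TorChev
open Cfsg.Agent.BpExc.Tow Cfsg.Agent.BpExc.TowChev Cfsg.Agent.BpExc.Fr
  Cfsg.Agent.BpExc.LangFr Cfsg.Agent.BpExc.FamField Cfsg.Agent.BpExc.FamInst Cfsg.Agent.H129.TorusChar
  Cfsg.Agent.H795.LangT Cfsg.Agent.H378.TorDual Cfsg.Agent.H378.TorChar
  Cfsg.Agent.H378.TorFin Cfsg.Agent.H865.EE

variable {D : ChevalleyDatum} {l : ℕ} {M : CoxeterMatrix (Fin l)} (hp : IsType D l M) {k : Type} [Field k]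

/-- the roots -/
abbrev IR (hp : IsType D l M) (a : Fin l → ℤ) : Prop := IsRoot M.toCoxeterSystem hp.isCartan a

theorem gen_top {K : Subgroup ↥(D.group k)} (h : ∀ a, IR hp a → ∀ c : k, xc hp a c ∈ K) : K = ⊤ := by
  have h1 : D.group k ≤ K.map (D.group k).subtype := by
    rw [group_le_iff hp.inList]
    intro r hr t
    exact ⟨_, h (vec D l r) (isRoot_vec hp _ hr) t, coe_xc hp hr t⟩
  rw [eq_top_iff]
  rintro ⟨g, hg⟩ -
  obtain ⟨g', hg', e⟩ := h1 hg
  have h2 : g' = ⟨g, hg⟩ := Subtype.ext e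
  rw [← h2]
  exact hg'

theorem hom_ext {Z : Type*} [Group Z] {f g : ↥(D.group k) →* Z} (h : ∀ a, IR hp a → ∀ c : k, f (xc hp a c) = g (xc hp a c)) :
    f = g := by
  have h1 : f.eqLocus g = ⊤ := gen_top hp h
  ext y
  have h2 : y ∈ f.eqLocus g := by rw [h1]; exact Subgroup.mem_top y
  exact h2

variable [CharP k 2]

theorem xc_add' (hk : LocFin k) {a : Fin l → ℤ} (ha : IR hp a) (c d : k) : xc hp a (c + d) = xc hp a c * xc hp a d :=
  ((coordsL hp M.toCoxeterSystem hk 2).coord a ha).add c d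

theorem xc_zero' (hk : LocFin k) {a : Fin l → ℤ} (ha : IR hp a) : xc hp a (0 : k) = 1 :=
  ((coordsL hp M.toCoxeterSystem hk 2).coord a ha).zero

theorem xc_inj' (hk : LocFin k) {a : Fin l → ℤ} (ha : IR hp a) {c d : k} (h : xc hp a c = xc hp a d) : c = d :=
  ((coordsL hp M.toCoxeterSystem hk 2).coord a ha).inj h

theorem xc_mem' (hk : LocFin k) {a : Fin l → ℤ} (ha : IR hp a) (c : k) : xc hp a c ∈ XX D l k a :=
  (((coordsL hp M.toCoxeterSystem hk 2).coord a ha).mem _).2 ⟨c, rfl⟩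

/-- the torus acts by the characters -/
theorem tor_act (hk : LocFin k) {t : ↥(D.group k)} (ht : t ∈ TT D k) {a : Fin l → ℤ} (ha : IR hp a) (c : k) :
    t * xc hp a c * t⁻¹ = xc hp a (cX hp t a * c) := by
  rw [cX_root hp M.toCoxeterSystem ht ha]
  exact ((coordsL hp M.toCoxeterSystem hk 2).coord a ha).act t ht c

/-- **Different root groups intersect trivially.** -/
theorem xc_root_eq (hk : LocFin k) {a b : Fin l → ℤ} (ha : IR hp a) (hb : IR hp b) {c d : k}
    (h : xc hp a c = xc hp b d) (hc : c ≠ 0) : a = b := by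
  by_contra hab
  have H := tow hp M.toCoxeterSystem hk 2
  have hW := finite_W hp M.toCoxeterSystem
  have h1 := xc_mem' hp hk ha c
  have h2 := xc_mem' hp hk hb d
  rw [← h] at h2
  rw [← XL_eq hp hk] at h1 h2
  obtain ⟨j1, hj1⟩ := H.mem_XL.1 h1
  obtain ⟨j2, hj2⟩ := H.mem_XL.1 h2
  obtain ⟨j, h3, h4⟩ := H.dir j1 j2
  have h5 := OppDec.X_inf_X (H.rgd j) ha hb hab
  have h6 : xc hp a c = 1 := by
    rw [Subgroup.eq_bot_iff_forall] at h5
    exact h5 _ ⟨H.monoX a h3 hj1, H.monoX b h4 hj2⟩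
  exact ((coordsL hp M.toCoxeterSystem hk 2).coord a ha).ne_one hc h6

theorem sr_root (i : Fin l) : IR hp (sr i) := isRoot_sr _ _ i

theorem coe_xc_sr (i : Fin l) (c : k) : ((xc hp (sr i) c : ↥(D.group k)) : GL D.Idx k) = xG hp.inList (D.simple i) c := by
  rw [← vec_simple hp i]
  exact coe_xc hp (simple_lt hp.inList (lt_rank hp i)) c

theorem coe_xc_neg_sr (i : Fin l) (c : k) :
    ((xc hp (-sr i) c : ↥(D.group k)) : GL D.Idx k) = xG hp.inList (D.neg (D.simple i)) c := by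
  have h := simple_lt hp.inList (lt_rank hp i)
  rw [← vec_simple hp i, ← vec_neg hp h]
  exact coe_xc hp (neg_lt hp.inList h) c

/-- `n_a` -/
noncomputable def na (hp : IsType D l M) (k : Type) [Field k] (a : Fin l → ℤ) : ↥(D.group k) :=
  xc hp a 1 * (xc hp (-a) 1 * xc hp a 1)

/-- `h_a(c)` -/
noncomputable def ha' (hp : IsType D l M) (k : Type) [Field k] (a : Fin l → ℤ) (c : k) : ↥(D.group k) :=
  xc hp a c * (xc hp (-a) c⁻¹ * xc hp a c) * na hp k a

theorem nc_eq (i : Fin l) : nc hp k i = na hp k (sr i) := by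
  apply Subtype.ext
  show nG hp.inList (D.simple i) 1 = _
  rw [na, nG_def, Subgroup.coe_mul, Subgroup.coe_mul, coe_xc_sr, coe_xc_neg_sr, inv_one, CharTwo.neg_eq]

theorem hc_eq (i : Fin l) (c : k) : hc hp i c = ha' hp k (sr i) c := by
  apply Subtype.ext
  show hG hp.inList (D.simple i) c = _
  rw [ha', na, hG_def, nG_def, nG_def]
  simp only [Subgroup.coe_mul, coe_xc_sr, coe_xc_neg_sr, inv_one, CharTwo.neg_eq]

theorem nu_na (hk : LocFin k) (v : M.Group) {a : Fin l → ℤ} (ha : IR hp a) :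
    nu hp k v * na hp k a * (nu hp k v)⁻¹ = na hp k (rep M.toCoxeterSystem hp.isCartan v a) := by
  have e : nu hp k v * na hp k a * (nu hp k v)⁻¹ = (nu hp k v * xc hp a 1 * (nu hp k v)⁻¹) *
      ((nu hp k v * xc hp (-a) 1 * (nu hp k v)⁻¹) * (nu hp k v * xc hp a 1 * (nu hp k v)⁻¹)) := by
    rw [na]; group
  rw [e, nu_conj hp hk v ha, nu_conj hp hk v ha.neg, map_neg, na]

theorem nu_ha (hk : LocFin k) (v : M.Group) {a : Fin l → ℤ} (ha : IR hp a) (c : k) :
    nu hp k v * ha' hp k a c * (nu hp k v)⁻¹ = ha' hp k (rep M.toCoxeterSystem hp.isCartan v a) c := by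
  have e : nu hp k v * ha' hp k a c * (nu hp k v)⁻¹ = (nu hp k v * xc hp a c * (nu hp k v)⁻¹) *
      ((nu hp k v * xc hp (-a) c⁻¹ * (nu hp k v)⁻¹) * (nu hp k v * xc hp a c * (nu hp k v)⁻¹)) *
      (nu hp k v * na hp k a * (nu hp k v)⁻¹) := by
    rw [ha']; group
  rw [e, nu_conj hp hk v ha, nu_conj hp hk v ha.neg, map_neg, nu_na hp hk v ha, ha']

/-- the elements `nu v` normalise the torus -/
theorem nu_tor (hk : LocFin k) (v : M.Group) {t : ↥(D.group k)} (ht : t ∈ TT D k) :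
    nu hp k v * t * (nu hp k v)⁻¹ ∈ TT D k :=
  (Subgroup.mem_normalizer_iff.1 (nu_rp hp hk v).mem_normalizer t).1 ht

/-- the elements `h_a(c)` are in the torus -/
theorem ha_mem (hk : LocFin k) {a : Fin l → ℤ} (ha : IR hp a) {c : k} (hc0 : c ≠ 0) : ha' hp k a c ∈ TT D k := by
  obtain ⟨w, i, rfl⟩ := ha
  rw [← nu_ha hp hk w (sr_root hp i), ← hc_eq]
  exact nu_tor hp hk w (hc_mem hp i hc0)

/-- the torus is generated by the `h_i(c)` -/
theorem tor_gen {K : Subgroup ↥(D.group k)} (h : ∀ (i : Fin l) (c : k), c ≠ 0 → ha' hp k (sr i) c ∈ K) :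
    TT D k ≤ K := by
  refine (TT_le hp).trans ?_
  rw [Subgroup.closure_le]
  rintro _ ⟨j, c, hc0, rfl⟩
  rw [hc_eq]
  exact h j c hc0

section

variable [IsAlgClosed k]

/-- `nu v ∈ T` only for `v = 1`. -/
theorem nu_inj_TT (hk : LocFin k) {d : ℕ} {B : Fin l → Fin l → ℤ} (hB : H129.TorusChar.InvC D l d B) (hd : d ≠ 0)
    {v : M.Group} (h : nu hp k v ∈ TT D k) : v = 1 := by
  apply rep_injective M.toCoxeterSystem hp.isCartan
  apply LinearMap.ext
  intro x
  rw [map_one, Module.End.one_apply]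
  refine cX_sep hp (k := k) hB hd fun t ht => ?_
  have h1 := cX_rp hp M.toCoxeterSystem hk 2 (nu_rp hp hk v) ht x
  have h2 : nu hp k v * t * (nu hp k v)⁻¹ = t := by
    rw [TT_comm hp _ h _ ht]
    group
  rwa [h2] at h1

/-- An element normalising the torus permutes the root groups as an element of the Weyl group. -/
theorem exists_rep (hk : LocFin k) {x : ↥(D.group k)} (hx : ∀ t ∈ TT D k, x * t * x⁻¹ ∈ TT D k) :
    ∃ u : M.Group, ∀ a, IR hp a → ∃ c : k, c ≠ 0 ∧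
      x * xc hp a 1 * x⁻¹ = xc hp (rep M.toCoxeterSystem hp.isCartan u a) c := by
  obtain ⟨u, hu⟩ := exists_rp_of_normalizes hp hk (r := 2) hx
  refine ⟨u, fun a ha => ?_⟩
  have H := tow hp M.toCoxeterSystem hk 2
  have h1 := H.conj_rp hu ha
  have h2 : x * xc hp a 1 * x⁻¹ ∈ XL (Xj hp (k := k)) (rep M.toCoxeterSystem hp.isCartan u a) := by
    rw [← h1, mem_cj]
    have e : x⁻¹ * (x * xc hp a 1 * x⁻¹) * x = xc hp a (1 : k) := by group
    rw [e, XL_eq hp hk]
    exact xc_mem' hp hk ha 1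
  rw [XL_eq hp hk, ((coordsL hp M.toCoxeterSystem hk 2).coord _ (ha.act u)).mem] at h2
  obtain ⟨c, hc⟩ := h2
  refine ⟨c, ?_, hc.symm⟩
  rintro rfl
  have h0 : xc hp (rep M.toCoxeterSystem hp.isCartan u a) (0 : k) = 1 :=
    ((coordsL hp M.toCoxeterSystem hk 2).coord _ (ha.act u)).zero
  rw [h0] at hc
  have h3 : xc hp a (1 : k) = 1 := by
    have e : xc hp a (1 : k) = x⁻¹ * (x * xc hp a 1 * x⁻¹) * x := by group
    rw [e, ← hc]
    group
  exact ((coordsL hp M.toCoxeterSystem hk 2).coord a ha).ne_one one_ne_zero h3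

end

end Cfsg.Agent.H857.OE8
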