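import Cfsg.Agent.H865.EE.Base

/-!
# The lattices spanned by a quadruple of type `D₄` (helper857, S3384)

* `sp b c` : `∑ c i • b i`; `mm b x`, `two_smul_eq` : `2 x = sp b (mm b x) + w₈ (sp b (mm' b x))`;
* `eq_sp_of_orth` : a root orthogonal to `w₈ b` is in the span of `b`;
* `sp_refl` : the reflections in the `b i`.
-/

set_option autoImplicit false
set_option linter.unusedSectionVars false

namespace Cfsg.Agent.H857.OE8

open CoxeterSystem Cfsg Cfsg.Lie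
open Cfsg.Agent.ChevalleyStructure.CoxeterGeom Cfsg.Agent.ChevalleyStructure.CoxeterGeomTypes
open Cfsg.Agent.Tits.Roots Cfsg.Agent.Nodes.RGDChev Cfsg.Agent.H865.EE

/-- the combination of the `b i` -/
def sp (b : Fin 4 → Fin 8 → ℤ) (c : Fin 4 → ℤ) : Fin 8 → ℤ := ∑ i, c i • b i

theorem sp_add (b : Fin 4 → Fin 8 → ℤ) (c c' : Fin 4 → ℤ) : sp b (c + c') = sp b c + sp b c' := by
  unfold sp
  rw [← Finset.sum_add_distrib]
  exact Finset.sum_congr rfl fun i _ => by rw [Pi.add_apply, add_smul]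

theorem sp_smul (b : Fin 4 → Fin 8 → ℤ) (n : ℤ) (c : Fin 4 → ℤ) : sp b (n • c) = n • sp b c := by
  unfold sp
  rw [Finset.smul_sum]
  exact Finset.sum_congr rfl fun i _ => by rw [Pi.smul_apply, smul_assoc]

theorem sp_neg (b : Fin 4 → Fin 8 → ℤ) (c : Fin 4 → ℤ) : sp b (-c) = -sp b c := by
  have := sp_smul b (-1) c
  rwa [neg_one_smul, neg_one_smul] at this

theorem sp_sub (b : Fin 4 → Fin 8 → ℤ) (c c' : Fin 4 → ℤ) : sp b (c - c') = sp b c - sp b c' := by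
  rw [sub_eq_add_neg, sp_add, sp_neg, sub_eq_add_neg]

theorem sp_sr (b : Fin 4 → Fin 8 → ℤ) (i : Fin 4) : sp b (sr i) = b i := by
  unfold sp
  rw [Finset.sum_eq_single i (fun j _ hj => by rw [sr_ne hj, zero_smul]) (fun h => absurd (Finset.mem_univ i) h),
    sr_self, one_smul]

/-- the Cartan matrix of type `D₄` -/
def C4 : Fin 4 → Fin 4 → ℤ := ![![2, -1, 0, 0], ![-1, 2, -1, -1], ![0, -1, 2, 0], ![0, -1, 0, 2]]

/-- twice its inverse -/
def B4 : Fin 4 → Fin 4 → ℤ := ![![2, 2, 1, 1], ![2, 4, 2, 2], ![1, 2, 2, 1], ![1, 2, 1, 2]]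

theorem hC4 : ∀ i j, C4 i j = cartanOf chevD4 4 i j := by decide +kernel

theorem gram {b : Fin 4 → Fin 8 → ℤ} (hb : Quad b) (i j : Fin 4) : bf (b i) (b j) = C4 i j := by
  by_cases h : i = j
  · subst h
    rw [bf_self (hb.root i)]
    revert i; decide
  · rw [hb.ad i j h]
    revert h; revert i j; decide

theorem gram_w {b : Fin 4 → Fin 8 → ℤ} (hb : Quad b) (i j : Fin 4) :
    bf (act w8 (b i)) (act w8 (b j)) = C4 i j := by rw [bf_act, gram hb]

theorem bf_sp_left (b : Fin 4 → Fin 8 → ℤ) (c : Fin 4 → ℤ) (y : Fin 8 → ℤ) :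
    bf (sp b c) y = ∑ i, c i * bf (b i) y := by
  unfold sp
  rw [bf_sum_left]
  exact Finset.sum_congr rfl fun i _ => bf_smul_left _ _ _

theorem bf_sp_right (b : Fin 4 → Fin 8 → ℤ) (c : Fin 4 → ℤ) (y : Fin 8 → ℤ) :
    bf y (sp b c) = ∑ i, c i * bf y (b i) := by
  rw [bf_comm, bf_sp_left]
  exact Finset.sum_congr rfl fun i _ => by rw [bf_comm]

theorem orth_sp {b : Fin 4 → Fin 8 → ℤ} (hb : Quad b) (c c' : Fin 4 → ℤ) : bf (sp b c) (act w8 (sp b c')) = 0 := by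
  rw [bf_sp_left]
  refine Finset.sum_eq_zero fun i _ => ?_
  have h1 : act w8 (sp b c') = sp (fun j => act w8 (b j)) c' := by
    unfold sp
    rw [map_sum]
    exact Finset.sum_congr rfl fun j _ => map_smul _ _ _
  rw [h1, bf_sp_right, Finset.sum_eq_zero fun j _ => by rw [hb.orth, mul_zero], mul_zero]

theorem norm_sp {b : Fin 4 → Fin 8 → ℤ} (hb : Quad b) (c : Fin 4 → ℤ) :
    bf (sp b c) (sp b c) = c 0 ^ 2 + (c 1 - c 0) ^ 2 + (c 2 + c 3 - c 1) ^ 2 + (c 3 - c 2) ^ 2 := by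
  rw [bf_sp_left]
  simp only [bf_sp_right, gram hb, Fin.sum_univ_four]
  simp [C4]
  ring

theorem norm_even (x : Fin 8 → ℤ) : 2 ∣ bf x x := by
  unfold bf
  simp only [Fin.sum_univ_eight]
  simp [C8]
  refine ⟨x 0 ^ 2 + x 1 ^ 2 + x 2 ^ 2 + x 3 ^ 2 + x 4 ^ 2 + x 5 ^ 2 + x 6 ^ 2 + x 7 ^ 2 - x 0 * x 2 - x 1 * x 3
    - x 2 * x 3 - x 3 * x 4 - x 4 * x 5 - x 5 * x 6 - x 6 * x 7, ?_⟩
  ring

/-! ### completeness -/

/-- the eight roots -/
noncomputable def vv (b : Fin 4 → Fin 8 → ℤ) : Fin 4 ⊕ Fin 4 → Fin 8 → ℤ := Sum.elim b fun j => act w8 (b j)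

/-- the coordinates of `2 x` -/
def mc (x : Fin 8 → ℤ) (b : Fin 4 → Fin 8 → ℤ) : Fin 4 → ℤ := fun i => ∑ j, B4 i j * bf x (b j)

theorem B4_C4 : ∀ i j : Fin 4, ∑ m, B4 i m * C4 m j = if i = j then 2 else 0 := by decide

/-- **Completeness.** -/
theorem two_smul_eq {b : Fin 4 → Fin 8 → ℤ} (hb : Quad b) (x : Fin 8 → ℤ) :
    (2 : ℤ) • x = sp b (mc x b) + act w8 (sp b (mc x fun j => act w8 (b j))) := by
  -- the matrices over `ℚ`
  let P : Matrix (Fin 4 ⊕ Fin 4) (Fin 8) ℚ := Matrix.of fun i m => (vv b i m : ℚ)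
  let X : Matrix (Fin 4 ⊕ Fin 4) (Fin 8) ℚ := Matrix.of fun i m =>
    Sum.elim (fun i' => (1 / 2 : ℚ) * ∑ j, (B4 i' j : ℚ) * (∑ n, (b j n : ℚ) * C8 n m))
      (fun i' => (1 / 2 : ℚ) * ∑ j, (B4 i' j : ℚ) * (∑ n, (act w8 (b j) n : ℚ) * C8 n m)) i
  have hbf : ∀ u v : Fin 8 → ℤ, ∑ m, (∑ n, (u n : ℚ) * C8 n m) * (v m : ℚ) = (bf u v : ℚ) := by
    intro u v
    unfold bf
    push_cast
    simp only [Finset.sum_mul]
    rw [Finset.sum_comm]
  have hXv : ∀ (i : Fin 4 ⊕ Fin 4) (v : Fin 8 → ℤ), ∑ m, X i m * (v m : ℚ) =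
      Sum.elim (fun i' => (1 / 2 : ℚ) * ∑ j, (B4 i' j : ℚ) * (bf (b j) v : ℚ))
        (fun i' => (1 / 2 : ℚ) * ∑ j, (B4 i' j : ℚ) * (bf (act w8 (b j)) v : ℚ)) i := by
    intro i v
    rcases i with i | i
    · show ∑ m, ((1 / 2 : ℚ) * ∑ j, (B4 i j : ℚ) * (∑ n, (b j n : ℚ) * C8 n m)) * (v m : ℚ) = _
      simp only [Sum.elim_inl, ← hbf, Finset.mul_sum, Finset.sum_mul]
      rw [Finset.sum_comm]
      refine Finset.sum_congr rfl fun j _ => Finset.sum_congr rfl fun m _ => Finset.sum_congr rfl fun n _ => by ring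
    · show ∑ m, ((1 / 2 : ℚ) * ∑ j, (B4 i j : ℚ) * (∑ n, (act w8 (b j) n : ℚ) * C8 n m)) * (v m : ℚ) = _
      simp only [Sum.elim_inr, ← hbf, Finset.mul_sum, Finset.sum_mul]
      rw [Finset.sum_comm]
      refine Finset.sum_congr rfl fun j _ => Finset.sum_congr rfl fun m _ => Finset.sum_congr rfl fun n _ => by ring
  have hG : ∀ i j : Fin 4, (1 / 2 : ℚ) * ∑ m, (B4 i m : ℚ) * (C4 m j : ℚ) = if i = j then 1 else 0 := by
    intro i j
    have h := congrArg (Int.cast : ℤ → ℚ) (B4_C4 i j)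
    push_cast at h
    rw [h]
    split_ifs <;> norm_num
  have hXP : X * P.transpose = 1 := by
    ext i j
    rw [Matrix.mul_apply]
    have h1 : ∑ m, X i m * P.transpose m j = ∑ m, X i m * (vv b j m : ℚ) := rfl
    rw [h1, hXv]
    rcases i with i | i <;> rcases j with j | j
    · show (1 / 2 : ℚ) * ∑ m, (B4 i m : ℚ) * (bf (b m) (b j) : ℚ) = _
      simp only [gram hb, hG]
      simp [Matrix.one_apply]
    · show (1 / 2 : ℚ) * ∑ m, (B4 i m : ℚ) * (bf (b m) (act w8 (b j)) : ℚ) = _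
      simp only [hb.orth]
      simp
    · show (1 / 2 : ℚ) * ∑ m, (B4 i m : ℚ) * (bf (act w8 (b m)) (b j) : ℚ) = _
      simp only [bf_comm (act w8 _), hb.orth]
      simp
    · show (1 / 2 : ℚ) * ∑ m, (B4 i m : ℚ) * (bf (act w8 (b m)) (act w8 (b j)) : ℚ) = _
      simp only [gram_w hb, hG]
      simp [Matrix.one_apply]
  have hPX : P.transpose * X = 1 := (Matrix.mul_eq_one_comm_of_equiv finSumFinEquiv).1 hXP
  funext n
  have h1 : ∑ m, (P.transpose * X) n m * (x m : ℚ) = (x n : ℚ) := by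
    rw [hPX]
    simp [Matrix.one_apply]
  have h2 : ∑ m, (P.transpose * X) n m * (x m : ℚ) = ∑ i, (vv b i n : ℚ) * ∑ m, X i m * (x m : ℚ) := by
    simp only [Matrix.mul_apply, Finset.sum_mul, Finset.mul_sum]
    rw [Finset.sum_comm]
    refine Finset.sum_congr rfl fun i _ => Finset.sum_congr rfl fun m _ => ?_
    show (vv b i n : ℚ) * X i m * (x m : ℚ) = _
    ring
  rw [h1, Fintype.sum_sum_type] at h2
  simp only [hXv, Sum.elim_inl, Sum.elim_inr] at h2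
  have h3 : (act w8 (sp b (mc x fun j => act w8 (b j)))) n =
      ∑ i, (mc x fun j => act w8 (b j)) i * act w8 (b i) n := by
    unfold sp
    rw [map_sum, Finset.sum_apply]
    exact Finset.sum_congr rfl fun i _ => by rw [map_smul]; rfl
  rw [Pi.add_apply, h3]
  have h4 : sp b (mc x b) n = ∑ i, mc x b i * b i n := by
    unfold sp
    rw [Finset.sum_apply]
    exact Finset.sum_congr rfl fun i _ => rfl
  rw [h4]
  have h5 : ((2 : ℤ) • x) n = 2 * x n := rfl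
  rw [h5]
  have h6 : (2 : ℚ) * (x n : ℚ) = ∑ i, (mc x b i : ℚ) * (b i n : ℚ) +
      ∑ i, ((mc x fun j => act w8 (b j)) i : ℚ) * (act w8 (b i) n : ℚ) := by
    rw [h2, mul_add, Finset.mul_sum, Finset.mul_sum]
    refine congrArg₂ (· + ·) ?_ ?_
    · refine Finset.sum_congr rfl fun i _ => ?_
      unfold mc
      push_cast
      simp only [bf_comm x]
      show 2 * ((b i n : ℚ) * ((1 / 2 : ℚ) * _)) = _
      ring
    · refine Finset.sum_congr rfl fun i _ => ?_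
      unfold mc
      push_cast
      simp only [bf_comm x]
      show 2 * ((act w8 (b i) n : ℚ) * ((1 / 2 : ℚ) * _)) = _
      ring
  exact_mod_cast h6

end Cfsg.Agent.H857.OE8
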