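import Cfsg.Agent.H857.OE8.LatB

/-!
# The span of a quadruple and of its image (helper857, S3384)

* `eq_sp_of_orth` : a root orthogonal to `w₈ b` is in the span of `b`;
* `L12 b` : the sum of the spans of `b` and `w₈ b`; `two_mem`, `mem_SS_of_L12`;
* `sub_mem_L12` : `v x - x ∈ L12 b` if `v` commutes with `w₈` and acts on the span of `b` as an element of `W(D₄)`;
* `mem_SS_of_rr` : so `a ∈ SS b` if `v = rr a` has this property.
-/

set_option autoImplicit false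
set_option linter.unusedSectionVars false

namespace Cfsg.Agent.H857.OE8

open CoxeterSystem Cfsg Cfsg.Lie
open Cfsg.Agent.ChevalleyStructure.CoxeterGeom Cfsg.Agent.ChevalleyStructure.CoxeterGeomTypes
open Cfsg.Agent.Tits.Roots Cfsg.Agent.Nodes.RGDChev Cfsg.Agent.H865.EE

theorem par : ∀ n0 n1 n2 n3 : ZMod 2, n0 ^ 2 + 2 * n1 ^ 2 + n2 ^ 2 + n3 ^ 2 + 2 * (n0 * n1) + n0 * n2 + n0 * n3 +
    2 * (n1 * n2) + 2 * (n1 * n3) + n2 * n3 = 2 → n0 = n2 ∧ n2 = n3 := by decide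

theorem smul_left_cancel_two {x y : Fin 8 → ℤ} (h : (2 : ℤ) • x = (2 : ℤ) • y) : x = y := by
  funext i
  have h1 := congrFun h i
  have h2 : 2 * x i = 2 * y i := h1
  omega

theorem eq_sp_of_orth {b : Fin 4 → Fin 8 → ℤ} (hb : Quad b) {a : Fin 8 → ℤ} (ha : Rt a)
    (h : ∀ j, bf a (act w8 (b j)) = 0) : ∃ c, a = sp b c := by
  have h1 := two_smul_eq hb a
  have h2 : mc a (fun j => act w8 (b j)) = 0 := by
    funext i
    unfold mc
    exact Finset.sum_eq_zero fun j _ => by rw [h, mul_zero]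
  have h0 : sp b 0 = 0 := by
    unfold sp
    exact Finset.sum_eq_zero fun j _ => by rw [Pi.zero_apply, zero_smul]
  rw [h2, h0, map_zero, add_zero] at h1
  -- the norm
  obtain ⟨n, hn⟩ : ∃ n : Fin 4 → ℤ, n = fun j => bf a (b j) := ⟨_, rfl⟩
  have hm : ∀ i, mc a b i = ∑ j, B4 i j * n j := fun i => by rw [hn]; rfl
  have h3 : bf a ((2 : ℤ) • a) = 4 := by rw [bf_smul_right, bf_self ha]; norm_num
  rw [h1, bf_sp_right] at h3
  have h4 : ∑ i, (∑ j, B4 i j * n j) * n i = 4 := by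
    rw [← h3]
    refine Finset.sum_congr rfl fun i _ => ?_
    rw [hm, hn]
  have h5 : n 0 ^ 2 + 2 * n 1 ^ 2 + n 2 ^ 2 + n 3 ^ 2 + 2 * (n 0 * n 1) + n 0 * n 2 + n 0 * n 3 +
      2 * (n 1 * n 2) + 2 * (n 1 * n 3) + n 2 * n 3 = 2 := by
    simp only [Fin.sum_univ_four] at h4
    simp [B4] at h4
    linarith
  have h6 := congrArg (Int.cast : ℤ → ZMod 2) h5
  push_cast at h6
  obtain ⟨h7, h8⟩ := par _ _ _ _ h6
  rw [ZMod.intCast_eq_intCast_iff] at h7 h8
  unfold Int.ModEq at h7 h8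
  have h9 : ∀ i, 2 ∣ mc a b i := by
    intro i
    rw [hm]
    simp only [Fin.sum_univ_four]
    fin_cases i <;> simp [B4] <;> omega
  choose c hc using h9
  refine ⟨c, smul_left_cancel_two ?_⟩
  rw [h1, ← sp_smul]
  refine congrArg (sp b) ?_
  funext i
  rw [hc i]
  rfl

/-- the sum of the spans of `b` and of `w₈ b` -/
def L12 (b : Fin 4 → Fin 8 → ℤ) : AddSubgroup (Fin 8 → ℤ) where
  carrier := {x | ∃ c c', x = sp b c + act w8 (sp b c')}
  add_mem' := by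
    rintro _ _ ⟨c, c', rfl⟩ ⟨d, d', rfl⟩
    exact ⟨c + d, c' + d', by rw [sp_add, sp_add, map_add]; abel⟩
  zero_mem' := ⟨0, 0, by
    have h0 : sp b 0 = 0 := by
      unfold sp
      exact Finset.sum_eq_zero fun j _ => by rw [Pi.zero_apply, zero_smul]
    rw [h0, map_zero, add_zero]⟩
  neg_mem' := by
    rintro _ ⟨c, c', rfl⟩
    exact ⟨-c, -c', by rw [sp_neg, sp_neg, map_neg]; abel⟩

theorem mem_L12 {b : Fin 4 → Fin 8 → ℤ} {x : Fin 8 → ℤ} : x ∈ L12 b ↔ ∃ c c', x = sp b c + act w8 (sp b c') := Iff.rfl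

theorem two_mem {b : Fin 4 → Fin 8 → ℤ} (hb : Quad b) (x : Fin 8 → ℤ) : (2 : ℤ) • x ∈ L12 b :=
  ⟨_, _, two_smul_eq hb x⟩

theorem norm_nonneg {b : Fin 4 → Fin 8 → ℤ} (hb : Quad b) (c : Fin 4 → ℤ) : 0 ≤ bf (sp b c) (sp b c) := by
  rw [norm_sp hb]
  positivity

theorem sp_zero_of_norm {b : Fin 4 → Fin 8 → ℤ} (hb : Quad b) {c : Fin 4 → ℤ} (h : bf (sp b c) (sp b c) = 0) :
    c = 0 := by
  rw [norm_sp hb] at h
  have k0 : c 0 = 0 := by nlinarith [sq_nonneg (c 0), sq_nonneg (c 1 - c 0), sq_nonneg (c 2 + c 3 - c 1), sq_nonneg (c 3 - c 2)]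
  have k1 : c 1 - c 0 = 0 := by nlinarith [sq_nonneg (c 0), sq_nonneg (c 1 - c 0), sq_nonneg (c 2 + c 3 - c 1), sq_nonneg (c 3 - c 2)]
  have k2 : c 2 + c 3 - c 1 = 0 := by nlinarith [sq_nonneg (c 0), sq_nonneg (c 1 - c 0), sq_nonneg (c 2 + c 3 - c 1), sq_nonneg (c 3 - c 2)]
  have k3 : c 3 - c 2 = 0 := by nlinarith [sq_nonneg (c 0), sq_nonneg (c 1 - c 0), sq_nonneg (c 2 + c 3 - c 1), sq_nonneg (c 3 - c 2)]
  funext i
  fin_cases i
  · exact k0
  · show c 1 = 0; omega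
  · show c 2 = 0; omega
  · show c 3 = 0; omega

theorem sp_zero (b : Fin 4 → Fin 8 → ℤ) : sp b 0 = 0 := by
  unfold sp
  exact Finset.sum_eq_zero fun j _ => by rw [Pi.zero_apply, zero_smul]

/-- a root in `L12 b` is in `SS b` -/
theorem mem_SS_of_L12 {b : Fin 4 → Fin 8 → ℤ} (hb : Quad b) {a : Fin 8 → ℤ} (ha : Rt a) (h : a ∈ L12 b) :
    a ∈ SS b := by
  obtain ⟨c, c', rfl⟩ := h
  have h1 := bf_self ha
  rw [bf_add_left, bf_add_right, bf_add_right, orth_sp hb, bf_comm (act w8 _), orth_sp hb, bf_act, add_zero,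
    zero_add] at h1
  obtain ⟨p, hp⟩ := norm_even (sp b c)
  obtain ⟨q, hq⟩ := norm_even (sp b c')
  have hp0 := norm_nonneg hb c
  have hq0 := norm_nonneg hb c'
  rcases (by omega : p = 0 ∨ q = 0) with h2 | h2
  · have h3 : c = 0 := sp_zero_of_norm hb (by rw [hp, h2, mul_zero])
    right
    refine ⟨sp b c', (mem_Ph hb).2 ⟨c', ?_, rfl⟩, by rw [h3, sp_zero, zero_add]⟩
    apply rt4_of_norm
    rw [← norm_sp hb]
    omega
  · have h3 : c' = 0 := sp_zero_of_norm hb (by rw [hq, h2, mul_zero])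
    left
    refine (mem_Ph hb).2 ⟨c, ?_, by rw [h3, sp_zero, map_zero, add_zero]⟩
    apply rt4_of_norm
    rw [← norm_sp hb]
    omega

/-! ### the action on `L12 b` -/

theorem B4_even (n : Fin 4 → ℤ) (ω : List (Fin 4)) :
    ∃ p : Fin 4 → ℤ, act4 (cs4.wordProd ω) (fun i => ∑ j, B4 i j * n j) - (fun i => ∑ j, B4 i j * n j) = (2 : ℤ) • p := by
  induction ω with
  | nil =>
    refine ⟨0, ?_⟩
    rw [wordProd_nil]
    show rep _ _ 1 _ - _ = _
    rw [map_one, Module.End.one_apply, sub_self, smul_zero]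
  | cons i ω ih =>
    obtain ⟨p, hp⟩ := ih
    obtain ⟨m, hm⟩ : ∃ m : Fin 4 → ℤ, m = fun i => ∑ j, B4 i j * n j := ⟨_, rfl⟩
    rw [← hm] at hp ⊢
    have h1 : act4 (cs4.wordProd ω) m = m + (2 : ℤ) • p := by rw [← hp]; abel
    have h2 : act4 (cs4.simple i) m = m - (2 * n i) • sr i := by
      show rep _ _ _ m = _
      rw [rep_simple_eq]
      congr 2
      unfold pairing
      simp only [← hC4]
      have key : ∀ i j : Fin 4, ∑ q, C4 i q * B4 q j = if i = j then 2 else 0 := by decide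
      rw [hm]
      simp only [Finset.mul_sum]
      rw [Finset.sum_comm]
      have h3 : ∀ j, ∑ q, C4 i q * (B4 q j * n j) = (if i = j then 2 else 0) * n j := by
        intro j
        rw [← key, Finset.sum_mul]
        exact Finset.sum_congr rfl fun q _ => by ring
      rw [Finset.sum_congr rfl fun j _ => h3 j, Finset.sum_eq_single i
        (fun j _ hj => by rw [if_neg (Ne.symm hj), zero_mul]) (fun h => absurd (Finset.mem_univ i) h), if_pos rfl]
    refine ⟨act4 (cs4.simple i) p - n i • sr i, ?_⟩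
    rw [wordProd_cons]
    show rep _ _ _ m - m = _
    rw [rep_mul_apply]
    show act4 (cs4.simple i) (act4 (cs4.wordProd ω) m) - m = _
    rw [h1, map_add, h2, map_smul, smul_sub, smul_smul]
    abel

theorem sub_mem_L12 {b : Fin 4 → Fin 8 → ℤ} (hb : Quad b) {v : W8} (hv : v ∈ CW) {ω : List (Fin 4)}
    (h : ∀ c, act v (sp b c) = sp b (act4 (cs4.wordProd ω) c)) (x : Fin 8 → ℤ) : act v x - x ∈ L12 b := by
  obtain ⟨p, hp⟩ := B4_even (fun j => bf x (b j)) ω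
  obtain ⟨q, hq⟩ := B4_even (fun j => bf x (act w8 (b j))) ω
  refine ⟨p, q, smul_left_cancel_two ?_⟩
  have h1 := two_smul_eq hb x
  have hp' : act4 (cs4.wordProd ω) (mc x b) - mc x b = (2 : ℤ) • p := hp
  have hq' : act4 (cs4.wordProd ω) (mc x fun j => act w8 (b j)) - (mc x fun j => act w8 (b j)) = (2 : ℤ) • q := hq
  generalize mc x b = m at h1 hp'
  generalize (mc x fun j => act w8 (b j)) = m' at h1 hq'
  have h2 : act w8 ((2 : ℤ) • sp b q) = (2 : ℤ) • act w8 (sp b q) := map_smul _ _ _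
  rw [smul_sub, ← map_smul, h1, map_add, h, mem_CW.1 hv, h, smul_add, ← h2, ← sp_smul, ← sp_smul, ← hp', ← hq',
    sp_sub, sp_sub, map_sub]
  abel

/-! ### roots `a` and `w₈ a` -/

theorem orth_w8 (x : Fin 8 → ℤ) : bf x (act w8 x) = 0 := by
  have h1 := bf_act w8 x (act w8 x)
  rw [w8_sq, bf_neg_right, bf_comm] at h1
  omega

theorem rr_apply {a : Fin 8 → ℤ} (ha : Rt a) (x : Fin 8 → ℤ) :
    act (rr a) x = x - (bf x a • a + bf x (act w8 a) • act w8 a) := by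
  rw [rr, act_mul, act_rf (ha.act w8), act_rf ha, bf_sub_left, bf_smul_left, bf_comm (act w8 a) a, orth_w8, mul_zero,
    sub_zero]
  abel

theorem rr_mem_CW {a : Fin 8 → ℤ} (ha : Rt a) : rr a ∈ CW := by
  rw [mem_CW]
  intro x
  have h1 : bf (act w8 x) a = -bf x (act w8 a) := by
    have := bf_act w8 (act w8 x) a
    rw [w8_sq, bf_neg_left] at this
    omega
  rw [rr_apply ha, rr_apply ha, map_sub, map_add, map_smul, map_smul, w8_sq, bf_act, h1]
  simp only [neg_smul, smul_neg]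
  abel

/-- the inverse of the Cartan matrix of type `E₈` -/
theorem invE : ∀ m i : Fin 8, ∑ j, (![![4, 5, 7, 10, 8, 6, 4, 2], ![5, 8, 10, 15, 12, 9, 6, 3],
    ![7, 10, 14, 20, 16, 12, 8, 4], ![10, 15, 20, 30, 24, 18, 12, 6], ![8, 12, 16, 24, 20, 15, 10, 5],
    ![6, 9, 12, 18, 15, 12, 8, 4], ![4, 6, 8, 12, 10, 8, 6, 3], ![2, 3, 4, 6, 5, 4, 3, 2]] : Fin 8 → Fin 8 → ℤ) m j *
    C8 j i = if m = i then 1 else 0 := by decide +kernel

/-- the dual basis -/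
theorem exists_dual (m : Fin 8) : ∃ x : Fin 8 → ℤ, ∀ y, bf x y = y m := by
  refine ⟨(![![4, 5, 7, 10, 8, 6, 4, 2], ![5, 8, 10, 15, 12, 9, 6, 3],
    ![7, 10, 14, 20, 16, 12, 8, 4], ![10, 15, 20, 30, 24, 18, 12, 6], ![8, 12, 16, 24, 20, 15, 10, 5],
    ![6, 9, 12, 18, 15, 12, 8, 4], ![4, 6, 8, 12, 10, 8, 6, 3], ![2, 3, 4, 6, 5, 4, 3, 2]] : Fin 8 → Fin 8 → ℤ) m,
    fun y => ?_⟩
  unfold bf
  rw [Finset.sum_comm]
  have h1 : ∀ j, ∑ i, (![![4, 5, 7, 10, 8, 6, 4, 2], ![5, 8, 10, 15, 12, 9, 6, 3],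
    ![7, 10, 14, 20, 16, 12, 8, 4], ![10, 15, 20, 30, 24, 18, 12, 6], ![8, 12, 16, 24, 20, 15, 10, 5],
    ![6, 9, 12, 18, 15, 12, 8, 4], ![4, 6, 8, 12, 10, 8, 6, 3], ![2, 3, 4, 6, 5, 4, 3, 2]] : Fin 8 → Fin 8 → ℤ) m i *
    C8 i j * y j = (if m = j then 1 else 0) * y j := by
    intro j
    rw [← Finset.sum_mul, invE]
  rw [Finset.sum_congr rfl fun j _ => h1 j, Finset.sum_eq_single m
    (fun j _ hj => by rw [if_neg (Ne.symm hj), zero_mul]) (fun h => absurd (Finset.mem_univ m) h), if_pos rfl, one_mul]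

/-- `x` has odd product with `a` and even product with `w₈ a` -/
theorem exists_odd {a : Fin 8 → ℤ} (ha : Rt a) : ∃ x : Fin 8 → ℤ, ¬ 2 ∣ bf x a ∧ 2 ∣ bf x (act w8 a) := by
  by_contra hcon
  push Not at hcon
  have two : ∀ y : Fin 8 → ℤ, (∀ x, 2 ∣ bf x y) → ∃ z, y = (2 : ℤ) • z := by
    intro y hy
    have : ∀ m, 2 ∣ y m := fun m => by
      obtain ⟨x, hx⟩ := exists_dual m
      rw [← hx y]
      exact hy x
    choose z hz using this
    exact ⟨z, funext hz⟩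
  have hodd : ∃ x, ¬ 2 ∣ bf x a := by
    by_contra h1
    push Not at h1
    obtain ⟨z, hz⟩ := two a h1
    have h2 := bf_self ha
    rw [hz, bf_smul_left, bf_smul_right] at h2
    omega
  obtain ⟨x0, hx0⟩ := hodd
  have hx1 := hcon x0 hx0
  obtain ⟨z, hz⟩ := two (a + act w8 a) fun x => by
    rw [bf_add_right]
    by_cases hx : 2 ∣ bf x a
    · have h1 : ¬ 2 ∣ bf (x + x0) a := by rw [bf_add_left]; omega
      have h2 := hcon _ h1
      rw [bf_add_left] at h2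
      omega
    · have h2 := hcon _ hx
      omega
  have h3 : bf (a + act w8 a) (a + act w8 a) = 4 := by
    rw [bf_add_left, bf_add_right, bf_add_right, bf_act, bf_self ha, bf_comm (act w8 a) a, orth_w8]
    norm_num
  obtain ⟨n, hn⟩ := norm_even z
  rw [hz, bf_smul_left, bf_smul_right, hn] at h3
  omega

/-- **A root `a` is in `SS b` if `rr a` acts on the span of `b` as an element of `W(D₄)`.** -/
theorem mem_SS_of_rr {b : Fin 4 → Fin 8 → ℤ} (hb : Quad b) {a : Fin 8 → ℤ} (ha : Rt a) {ω : List (Fin 4)}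
    (h : ∀ c, act (rr a) (sp b c) = sp b (act4 (cs4.wordProd ω) c)) : a ∈ SS b := by
  obtain ⟨x, hx1, y, hy⟩ := exists_odd ha
  have h1 := sub_mem_L12 hb (rr_mem_CW ha) h x
  rw [rr_apply ha, hy] at h1
  obtain ⟨n, hn⟩ : ∃ n, bf x a = 2 * n + 1 := by
    refine ⟨(bf x a - 1) / 2, ?_⟩
    omega
  rw [hn] at h1
  refine mem_SS_of_L12 hb ha ?_
  have h2 : a = -(x - ((2 * n + 1) • a + (2 * y) • act w8 a) - x) - (2 : ℤ) • (n • a) - (2 : ℤ) • (y • act w8 a) := by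
    rw [add_smul, one_smul, smul_smul, smul_smul]
    abel
  rw [h2]
  exact sub_mem (sub_mem (neg_mem h1) (two_mem hb _)) (two_mem hb _)

end Cfsg.Agent.H857.OE8
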