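import Cfsg.Agent.H857.OE8.PsiB

/-!
# `XB k b` determines `SS b` (helper857, S3384)

* `eq_prod_rr` : an element of the Weyl group with a representative in `XB k b` is a product of the `rr (b i)`;
* `nu_rr_mem` : `nu (rr a) ∈ XB k b` for `a ∈ Ph b`; `nu_mem_XB` : so for the products of the `rr (b i)`;
* `ss_le` : `XB k b' ≤ XB k b` implies `SS b' ⊆ SS b`.
-/

set_option autoImplicit false
set_option linter.unusedSectionVars false

namespace Cfsg.Agent.H857.OE8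

open CoxeterSystem Subgroup Cfsg Cfsg.Lie Cfsg.Lie.ChevalleyDatum
open Cfsg.Agent.ChevalleyStructure Cfsg.Agent.ChevalleyStructure.Elts Cfsg.Agent.ChevalleyStructure.CoxeterGeom
  Cfsg.Agent.ChevalleyStructure.CoxeterGeomTypes Cfsg.Agent.ChevalleyStructure.NPerm
open Cfsg.Agent.Tits.Roots Cfsg.Agent.Tits.Core Cfsg.Agent.Nodes Cfsg.Agent.Nodes.Reps Cfsg.Agent.Nodes.BNOf
  Cfsg.Agent.Nodes.RGDChev Cfsg.Agent.Nodes.Bruhat
open Cfsg.Agent.KFacts.RgdChevCoord hiding act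
open Cfsg.Agent.BpExc.TowChev Cfsg.Agent.H865.EE

/-- `rr (b i)` acts on the span of `b` as the simple reflection -/
theorem act_rr_simple {b : Fin 4 → Fin 8 → ℤ} (hb : Quad b) (i : Fin 4) (c : Fin 4 → ℤ) :
    act (rr (b i)) (sp b c) = sp b (act4 (cs4.simple i) c) := by
  have h1 : bf (sp b c) (act w8 (b i)) = 0 := by
    have := orth_sp hb c (sr i)
    rwa [sp_sr] at this
  rw [← act_sp_simple hb, rr_apply (hb.root i), act_rf (hb.root i), h1, zero_smul, add_zero]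

/-- the product of the `rr (b i)` -/
noncomputable def wr (b : Fin 4 → Fin 8 → ℤ) (ω : List (Fin 4)) : W8 := (ω.map fun i => rr (b i)).prod

theorem wr_mem {b : Fin 4 → Fin 8 → ℤ} (hb : Quad b) (ω : List (Fin 4)) : wr b ω ∈ CW := by
  refine Subgroup.list_prod_mem _ fun x hx => ?_
  obtain ⟨i, -, rfl⟩ := List.mem_map.1 hx
  exact rr_mem_CW (hb.root i)

theorem act_wr {b : Fin 4 → Fin 8 → ℤ} (hb : Quad b) (ω : List (Fin 4)) (c : Fin 4 → ℤ) :
    act (wr b ω) (sp b c) = sp b (act4 (cs4.wordProd ω) c) := by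
  induction ω with
  | nil =>
    rw [wordProd_nil, wr, List.map_nil, List.prod_nil, act_one]
    show sp b c = sp b (rep _ _ 1 c)
    rw [map_one, Module.End.one_apply]
  | cons i ω ih =>
    have h1 : wr b (i :: ω) = rr (b i) * wr b ω := rfl
    rw [wordProd_cons, h1, act_mul, ih, act_rr_simple hb]
    show _ = sp b (rep _ _ _ c)
    rw [rep_mul_apply]

/-- elements of `CW` are determined on the span of `b` -/
theorem ext_sp {b : Fin 4 → Fin 8 → ℤ} (hb : Quad b) {u v : W8} (hu : u ∈ CW) (hv : v ∈ CW)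
    (h : ∀ c, act u (sp b c) = act v (sp b c)) : u = v := by
  refine act_ext fun x => smul_left_cancel_two ?_
  have h1 := two_smul_eq hb x
  rw [← map_smul, ← map_smul, h1, map_add, map_add, h, mem_CW.1 hu, mem_CW.1 hv, h]

variable {k : Type} [Field k] [CharP k 2] [IsAlgClosed k] [PerfectRing k 2]

variable {b : Fin 4 → Fin 8 → ℤ} (hb : Quad b) {psi : ↥(chevD4.group k) →* ↥(chevE8.group k)} (hpsi : IsPsi b psi)
  (hk : LocFin k)

theorem neg_mem_Ph {a : Fin 8 → ℤ} (ha : a ∈ Ph b) : -a ∈ Ph b := by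
  obtain ⟨h1, c, hc⟩ := ha
  refine ⟨h1.neg, -c, ?_⟩
  rw [hc]
  exact (sp_neg b c).symm

include hb hpsi hk in
/-- **An element of the Weyl group with a representative in `XB k b` is a product of the `rr (b i)`.** -/
theorem eq_prod_rr {v : W8} {t : ↥(chevE8.group k)} (ht : t ∈ TT chevE8 k) (h : nu tp8 k v * t ∈ XB k b) :
    ∃ ω : List (Fin 4), v = (ω.map fun i => rr (b i)).prod := by
  obtain ⟨h1, ω, h2⟩ := norm_form hb hpsi hk ht h
  refine ⟨ω, ext_sp hb h1 (wr_mem hb ω) fun c => ?_⟩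
  rw [h2]
  exact (act_wr hb ω c).symm

theorem nu_mem_GG {v : W8} (hv : v ∈ CW) : nu tp8 k v ∈ GG k := by
  rw [mem_GG, ta_nu]
  have h1 : w8 * v = v * w8 := act_ext fun x => by rw [act_mul, act_mul, mem_CW.1 hv]
  rw [h1, mul_inv_cancel_right]

include hk in
/-- `nu (rr a) ∈ XB k b` for the roots `a` in the span of `b` -/
theorem nu_rr_mem {a : Fin 8 → ℤ} (ha : a ∈ Ph b) : nu tp8 k (rr a) ∈ XB k b := by
  have hr : Rt a := ha.1
  have hn : -a ∈ Ph b := neg_mem_Ph ha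
  refine ⟨?_, nu_mem_GG (rr_mem_CW hr)⟩
  rw [rr, map_mul, nu_rf hk hr, nu_rf hk (rt_act hr w8)]
  have k1 : ∀ c : k, xc tp8 a c ∈ KK k (SS b) := fun c => Subgroup.subset_closure ⟨a, Or.inl ha, c, rfl⟩
  have k2 : ∀ c : k, xc tp8 (-a) c ∈ KK k (SS b) := fun c => Subgroup.subset_closure ⟨-a, Or.inl hn, c, rfl⟩
  have k3 : ∀ c : k, xc tp8 (act w8 a) c ∈ KK k (SS b) := fun c =>
    Subgroup.subset_closure ⟨act w8 a, Or.inr ⟨a, ha, rfl⟩, c, rfl⟩
  have k4 : ∀ c : k, xc tp8 (-act w8 a) c ∈ KK k (SS b) := fun c =>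
    Subgroup.subset_closure ⟨-act w8 a, mem_SS.2 (Or.inr ⟨-a, hn, by rw [map_neg]⟩), c, rfl⟩
  exact mul_mem (mul_mem (k1 1) (mul_mem (k2 1) (k1 1))) (mul_mem (k3 1) (mul_mem (k4 1) (k3 1)))

theorem w8_mem_SS {a : Fin 8 → ℤ} (ha : a ∈ SS b) : act w8 a ∈ SS b := by
  rcases mem_SS.1 ha with h | ⟨a', h, h1⟩
  · exact mem_SS.2 (Or.inr ⟨a, h, rfl⟩)
  · refine mem_SS.2 (Or.inl ?_)
    rw [h1, w8_sq]
    exact neg_mem_Ph h

include hb hpsi hk in
/-- **`XB k b' ≤ XB k b` implies `SS b' ⊆ SS b`.** -/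
theorem ss_le {b' : Fin 4 → Fin 8 → ℤ} (h : XB k b' ≤ XB k b) : SS b' ⊆ SS b := by
  have key : ∀ a ∈ Ph b', a ∈ SS b := by
    intro a ha
    have h1 := h (nu_rr_mem hk ha)
    have h2 : nu tp8 k (rr a) * 1 ∈ XB k b := by rw [mul_one]; exact h1
    obtain ⟨-, ω, h3⟩ := norm_form hb hpsi hk (one_mem _) h2
    exact mem_SS_of_rr hb ha.1 h3
  intro a ha
  rcases mem_SS.1 ha with h1 | ⟨a', h1, h2⟩
  · exact key a h1
  · rw [h2]
    exact w8_mem_SS (key a' h1)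

end Cfsg.Agent.H857.OE8
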